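import Groth.Agent.AlgStLib.UnivTop
import Groth.Agent.AlgStLib.Misc2
import Groth.Agent.AlgStLib.DiagSurj
import Groth.Agent.AlgStLib.AlgClosedLift
import Groth.Agent.AlgSpLib.RepUniv
import Groth.Agent.AlgStLib.QC
import Groth.Prelude.Def_StCoarse

/-!
# Universal closedness and universal homeomorphisms of functors onto schemes through a surjective cover
-/

set_option autoImplicit false
set_option backward.isDefEq.respectTransparency false
set_option backward.isDefEq.respectTransparency.types false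
set_option linter.style.haveILetI false
universe u

noncomputable section

namespace Groth.Agent.ConstQuotTop

open CategoryTheory CategoryTheory.Limits AlgebraicGeometry Opposite Groth.Agent.FibCatRep
  Groth.Agent.FibCat2Misc Groth.Agent.AlgSpLib Groth.Agent.StkBasic Groth.Agent.AlgStLib
open _root_.AlgSp _root_.AlgSt

variable {S : Scheme.{u}} {𝒳 𝒴 𝒲 : AlgSt.Cat S}

/-- the functor of a universally closed morphism of schemes is universally closed -/
theorem isUnivClosed_ofSpMap {X Y : Over S} (f : X ⟶ Y) [UniversallyClosed f.left] :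
    AlgSt.IsUnivClosed Scheme.fppfPrecoverage (AlgSt.ofSpMap ((yon S).map f)) := by
  let X' : AlgSp.Space S := ⟨_, IsAlgSpace.yon_obj X⟩
  let Y' : AlgSp.Space S := ⟨_, IsAlgSpace.yon_obj Y⟩
  have h : RepWith @UniversallyClosed ((yon S).map f) := (AlgSp.repWith_yon_map_iff _ f).2 ‹_›
  have h2 : RepByAlgSpWith (RepWith @UniversallyClosed) (AlgSt.ofSpMap ((yon S).map f)) :=
    repWith_ofSpMap (bcStable_repWith @UniversallyClosed)
      (ObjectProperty.homMk ((yon S).map f) : X' ⟶ Y') h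
  refine (univSp_iff_of_good goodTopP_closed IsClosedMor (fun _ => Iff.rfl)
    (isAlgStack_ofSp X') (isAlgStack_ofSp Y') _ (repByAlgSp1_of_with h2)).1 ?_
  exact Groth.Agent.AlgStLib.repWith_mono h2 fun _ T a _ ha =>
    (isUnivClosedMor_iff_repWith ((AlgSp.repWith_iff _ a).1 ha).1).2 ha

/-- universal closedness descends along a surjective representable cover of the source -/
theorem isUnivClosed_of_comp (h𝒳 : IsAlgStack Scheme.fppfPrecoverage 𝒳)
    (h𝒴 : IsAlgStack Scheme.fppfPrecoverage 𝒴) (h𝒲 : IsAlgStack Scheme.fppfPrecoverage 𝒲)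
    (q : 𝒲 ⥤ᵇ 𝒳) (π : 𝒳 ⥤ᵇ 𝒴) (hq : RepByAlgSpWith IsSurjectiveMor q)
    (hc : AlgSt.IsUnivClosed Scheme.fppfPrecoverage (BasedFunctor.comp q π)) :
    AlgSt.IsUnivClosed Scheme.fppfPrecoverage π := by
  intro 𝒵 h𝒵 g C hC
  have hA := algFp h𝒴 h𝒵 h𝒳 g π
  have hB := algFp h𝒴 h𝒵 h𝒲 g (BasedFunctor.comp q π)
  let p := prodSnd g π q
  have hs : Function.Surjective (AlgSt.Points.map p) :=
    isSurjective_of_repWith hB.isStack.1 hA.isStack.1 (repWith_prodSnd' g π q hq)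
  have he : AlgSt.Points.map (FibCat.fpFst g π) '' C =
      AlgSt.Points.map (FibCat.fpFst g (BasedFunctor.comp q π)) '' (AlgSt.Points.map p ⁻¹' C) := by
    have hc : ∀ x, AlgSt.Points.map (FibCat.fpFst g (BasedFunctor.comp q π)) x =
        AlgSt.Points.map (FibCat.fpFst g π) (AlgSt.Points.map p x) := fun x => by
      rw [← map_comp_points]; rfl
    apply subset_antisymm
    · rintro _ ⟨w, hw, rfl⟩
      obtain ⟨x, rfl⟩ := hs w
      exact ⟨x, hw, hc x⟩
    · rintro _ ⟨x, hx, rfl⟩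
      exact ⟨_, hx, (hc x).symm⟩
  rw [he]
  exact hc 𝒵 h𝒵 g _ (hC.preimage (continuous_map hA p))

theorem secAtBase_eq {M : AlgSp.Sp S} {o₁ o₂ : (AlgSt.ofSp M).obj} {T : Over S} (β : o₁ ⟶ o₂)
    (e₁ : o₁.base = T) (e₂ : o₂.base = T) (hβ : β.hom = eqToHom (e₁.trans e₂.symm)) :
    M.obj.map (eqToHom e₁.symm).op o₁.sec = M.obj.map (eqToHom e₂.symm).op o₂.sec := by
  obtain ⟨B₁, s₁⟩ := o₁
  obtain ⟨B₂, s₂⟩ := o₂
  dsimp only at e₁ e₂
  subst e₁
  subst e₂
  have h := β.map_sec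
  rw [hβ] at h
  simp at h ⊢
  exact h.symm

/-- bijectivity on geometric points makes the diagonal surjective -/
theorem isSurjective_diag_of_geomPtBij (h𝒳 : IsAlgStack Scheme.fppfPrecoverage 𝒳) {M : AlgSp.Space S}
    (π : 𝒳 ⥤ᵇ AlgSt.ofSp M.obj) (ht : AlgSt.GeomPtBij π) : AlgSt.IsSurjective (FibCat.diag π) := by
  have hMs := isAlgStack_ofSp M
  refine diag_surjective_of_liftHom h𝒳.isStack.1 hMs.isStack.1 fun k _ _ s a₁ a₂ h₁ h₂ β hβ => ?_
  haveI := hβ
  obtain ⟨e⟩ := (ht k s).2 ⟨a₁, h₁⟩ ⟨a₂, h₂⟩ (by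
    exact secAtBase_eq β ((π.w_obj a₁).trans h₁) ((π.w_obj a₂).trans h₂) (by
      refine (CategoryTheory.IsHomLift.fac' (AlgSt.ofSp M.obj).p (𝟙 (Over.mk s)) β).trans ?_
      simp))
  have ha : 𝒳.p.IsHomLift (𝟙 (Over.mk s)) e.hom.1 := e.hom.2
  refine ⟨e.hom.1, ha, ?_⟩
  refine Stk.EltObj.hom_ext ?_
  haveI := ha
  haveI : (AlgSt.ofSp M.obj).p.IsHomLift (𝟙 (Over.mk s)) (π.map e.hom.1) := π.preserves_isHomLift _ _
  have e3 := CategoryTheory.IsHomLift.fac' (AlgSt.ofSp M.obj).p (𝟙 (Over.mk s)) β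
  have e4 := CategoryTheory.IsHomLift.fac' (AlgSt.ofSp M.obj).p (𝟙 (Over.mk s)) (π.map e.hom.1)
  exact e4.trans e3.symm

/-- a functor bijective on geometric points with a surjective cover that is universally closed over the
scheme is a universal homeomorphism -/
theorem isUnivHomeo_of_cover (h𝒳 : IsAlgStack Scheme.fppfPrecoverage 𝒳) {X Y : Over S}
    (q : AlgSt.ofSch X ⥤ᵇ 𝒳) (hq : RepByAlgSpWith IsSurjectiveMor q) (π : 𝒳 ⥤ᵇ AlgSt.ofSch Y)
    (f : X ⟶ Y) [UniversallyClosed f.left] [Surjective f.left]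
    (hπ : BasedFunctor.comp q π = AlgSt.ofSpMap ((yon S).map f)) (ht : AlgSt.GeomPtBij π) :
    AlgSt.IsUnivHomeo Scheme.fppfPrecoverage π := by
  let X' : AlgSp.Space S := ⟨_, IsAlgSpace.yon_obj X⟩
  let Y' : AlgSp.Space S := ⟨_, IsAlgSpace.yon_obj Y⟩
  have hXs : IsAlgStack Scheme.fppfPrecoverage (AlgSt.ofSch X) := isAlgStack_ofSp X'
  have hYs : IsAlgStack Scheme.fppfPrecoverage (AlgSt.ofSch Y) := isAlgStack_ofSp Y'
  have hinj := isUnivInjective_of_diag_surjective h𝒳.isStack.1 hYs.isStack.1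
    (isSurjective_diag_of_geomPtBij h𝒳 (M := Y') π ht)
  have hcl := isUnivClosed_of_comp h𝒳 hYs hXs q π hq (hπ ▸ isUnivClosed_ofSpMap f)
  have hsf : AlgSt.IsSurjective (AlgSt.ofSpMap ((yon S).map f)) :=
    isSurjective_of_repWith hXs.isStack.1 hYs.isStack.1 (repWith_ofSpMap bcStable_surjective
      (ObjectProperty.homMk ((yon S).map f) : X' ⟶ Y')
      (isSurjectiveMor_of_repWith ((AlgSp.repWith_yon_map_iff _ f).2 ‹Surjective f.left›)))
  have hs : AlgSt.IsSurjective π := fun y => by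
    obtain ⟨x, hx⟩ := hsf y
    exact ⟨AlgSt.Points.map q x, by rw [← map_comp_points, hπ]; exact hx⟩
  intro 𝒵 h𝒵 g
  exact isHomeomorph_iff_continuous_isClosedMap_bijective.2
    ⟨continuous_map h𝒵 _, hcl 𝒵 h𝒵 g, hinj 𝒵 h𝒵 g,
      isSurjective_fpFst h𝒳.isStack.1 hYs.isStack.1 h𝒵.isStack.1 π g hs⟩

end Groth.Agent.ConstQuotTop
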