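import Groth.Agent.AlgStLib.QuotModuli
import Groth.Agent.AlgStLib.QuotRep
import Groth.Agent.AlgSpLib.PureMono
import Groth.Prelude.Def_StMod2

/-!
# The unit of a map out of a quotient stack: functions on the target are the invariant functions on the cover
-/

set_option autoImplicit false
set_option backward.isDefEq.respectTransparency false
set_option backward.isDefEq.respectTransparency.types false
set_option linter.style.haveILetI false
universe u

noncomputable section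

namespace Groth.Agent.ConstQuotTop

open CategoryTheory CategoryTheory.Limits MonoidalCategory CartesianMonoidalCategory MonObj GrpObj AlgebraicGeometry
open _root_.AlgSp Groth.Agent.AlgStLib Groth.Agent.AlgStLib.Quot

variable {S : Scheme.{u}} {G X Y : Over S} [GrpObj G] {aX : AlgGrp.Action G X}
  (π : AlgSt.QuotSt Scheme.fppfPrecoverage G aX ⥤ᵇ AlgSt.ofSch Y)

local notation "qm" => AlgSt.quotMap Scheme.fppfPrecoverage G aX

/-- the section of the target at an object -/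
def sect (A : AlgSt.QuotObj Scheme.fppfPrecoverage G aX) : A.base ⟶ Y :=
  eqToHom (π.w_obj A).symm ≫ (π.obj A).sec.down

theorem sec_eq_of_eq {o o' : (AlgSt.ofSch Y).obj} (e : o = o') :
    eqToHom (congrArg (·.base) e).symm ≫ o.sec.down = o'.sec.down := by
  subst e; exact Category.id_comp _

theorem sect_quotMap (f : X ⟶ Y) (hπ : BasedFunctor.comp qm π = AlgSt.ofSpMap ((yon S).map f))
    (T : Over S) (x : T ⟶ X) : sect π ((qm).obj (qpt T x)) = x ≫ f := by
  have e := sec_eq_of_eq (congrArg (fun F => F.obj (qpt T x)) hπ)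
  exact e

/-- an arrow to an object of the target -/
def mkArr (A : AlgSt.QuotObj Scheme.fppfPrecoverage G aX) {o₀ : (AlgSt.ofSch Y).obj} (k : A.base ⟶ o₀.base)
    (hk : k ≫ o₀.sec.down = sect π A) : π.obj A ⟶ o₀ :=
  ⟨eqToHom (π.w_obj A) ≫ k, ULift.ext _ _ (by
    show (eqToHom (π.w_obj A) ≫ k) ≫ o₀.sec.down = (π.obj A).sec.down
    rw [Category.assoc, hk, sect, eqToHom_trans_assoc, eqToHom_refl, Category.id_comp])⟩

theorem exists_mkArr (A : AlgSt.QuotObj Scheme.fppfPrecoverage G aX) {o₀ : (AlgSt.ofSch Y).obj}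
    (α : π.obj A ⟶ o₀) : ∃ (k : A.base ⟶ o₀.base) (hk : k ≫ o₀.sec.down = sect π A), α = mkArr π A k hk := by
  have h : α.hom ≫ o₀.sec.down = (π.obj A).sec.down := congrArg ULift.down α.map_sec
  refine ⟨eqToHom (π.w_obj A).symm ≫ α.hom, by rw [Category.assoc, h]; rfl, Stk.EltObj.hom_ext ?_⟩
  show α.hom = eqToHom (π.w_obj A) ≫ eqToHom (π.w_obj A).symm ≫ α.hom
  rw [eqToHom_trans_assoc, eqToHom_refl, Category.id_comp]

theorem mkArr_comp {A B : AlgSt.QuotObj Scheme.fppfPrecoverage G aX} {o₀ : (AlgSt.ofSch Y).obj} (φ : B ⟶ A)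
    (k : A.base ⟶ o₀.base) (hk : k ≫ o₀.sec.down = sect π A) :
    ∃ hk' : (φ.base ≫ k) ≫ o₀.sec.down = sect π B, π.map φ ≫ mkArr π A k hk = mkArr π B (φ.base ≫ k) hk' := by
  have h : (π.map φ).hom = eqToHom (π.w_obj B) ≫ φ.base ≫ eqToHom (π.w_obj A).symm :=
    Groth.Agent.FibCatRep.map_map π φ
  have hs : (π.map φ).hom ≫ (π.obj A).sec.down = (π.obj B).sec.down := congrArg ULift.down (π.map φ).map_sec
  refine ⟨?_, Stk.EltObj.hom_ext ?_⟩
  · rw [Category.assoc, hk, sect, sect, ← hs, h]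
    simp
  · show (π.map φ).hom ≫ eqToHom (π.w_obj A) ≫ k = eqToHom (π.w_obj B) ≫ φ.base ≫ k
    rw [h]; simp

/-- compatibility of a section of the direct image in terms of bases -/
theorem val_comp {A B : AlgSt.QuotObj Scheme.fppfPrecoverage G aX} {o₀ : (AlgSt.ofSch Y).obj}
    (t : (StMod.O (AlgSt.QuotSt Scheme.fppfPrecoverage G aX)).RelSect π o₀) (φ : B ⟶ A)
    (k : A.base ⟶ o₀.base) (hk : k ≫ o₀.sec.down = sect π A) (hk' : (φ.base ≫ k) ≫ o₀.sec.down = sect π B) :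
    φ.base.left.appTop.hom (t.1 A (mkArr π A k hk)) = t.1 B (mkArr π B (φ.base ≫ k) hk') := by
  obtain ⟨hk'', e⟩ := mkArr_comp π φ k hk
  have h := t.2 φ (mkArr π A k hk)
  rw [StMod.O_mapTop, e] at h
  exact h

theorem unit_val {A : AlgSt.QuotObj Scheme.fppfPrecoverage G aX} {o₀ : (AlgSt.ofSch Y).obj}
    (r : Γ(StMod.sch (AlgSt.ofSch Y) o₀, ⊤)) (k : A.base ⟶ o₀.base) (hk : k ≫ o₀.sec.down = sect π A) :
    (StMod.unitSect π o₀ r).1 A (mkArr π A k hk) = k.left.appTop.hom r := by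
  rw [StMod.unitSect_val]
  have e : StMod.baseOver π A (mkArr π A k hk) = k := by
    show eqToHom (π.w_obj A).symm ≫ eqToHom (π.w_obj A) ≫ k = k
    rw [eqToHom_trans_assoc, eqToHom_refl, Category.id_comp]
  rw [e]
  rfl

theorem val_congr {A : AlgSt.QuotObj Scheme.fppfPrecoverage G aX} {o₀ : (AlgSt.ofSch Y).obj}
    (t : (StMod.O (AlgSt.QuotSt Scheme.fppfPrecoverage G aX)).RelSect π o₀) {k k' : A.base ⟶ o₀.base}
    (e : k = k') (hk : k ≫ o₀.sec.down = sect π A) (hk' : k' ≫ o₀.sec.down = sect π A) :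
    t.1 A (mkArr π A k hk) = t.1 A (mkArr π A k' hk') := by
  subst e; rfl

variable [Flat G.hom] [LocallyOfFinitePresentation G.hom]

/-- functions on the target are the invariant functions on the pullback of the cover -/
theorem unitBij_quot (f : X ⟶ Y) (hπ : BasedFunctor.comp qm π = AlgSt.ofSpMap ((yon S).map f))
    (o₀ : (AlgSt.ofSch Y).obj) {W : Over S} (xW : W ⟶ X) (eW : W ⟶ o₀.base)
    (hW : IsPullback xW eW f o₀.sec.down) (hinj : Function.Injective eW.left.appTop.hom)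
    (hinv : ∀ z : Γ(W.left, ⊤), (∀ (T : Over S) (a b : T ⟶ W) (g : T ⟶ G), a ≫ eW = b ≫ eW →
      lift g (a ≫ xW) ≫ aX.act = b ≫ xW → a.left.appTop.hom z = b.left.appTop.hom z) →
        ∃ r, eW.left.appTop.hom r = z) :
    Function.Bijective (StMod.unitSect π o₀) := by
  let ξ₀ := (qm).obj (qpt W xW)
  have hk₀ : eW ≫ o₀.sec.down = sect π ξ₀ := by rw [sect_quotMap π f hπ]; exact hW.w.symm
  refine ⟨fun r r' h => hinj ?_, fun t => ?_⟩
  · have h1 := congrArg (fun s : (StMod.O (AlgSt.QuotSt Scheme.fppfPrecoverage G aX)).RelSect π o₀ =>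
      s.1 ξ₀ (mkArr π ξ₀ eW hk₀)) h
    simp only [unit_val] at h1
    exact h1
  obtain ⟨r, hr⟩ := hinv (t.1 ξ₀ (mkArr π ξ₀ eW hk₀)) fun T a b g hab hg => by
    let A₁ := (qm).obj (qpt T (a ≫ xW))
    let p : T ⟶ A₁.P := lift g (𝟙 T)
    have hp : p ≫ A₁.φ = b ≫ xW := by
      show lift g (𝟙 T) ≫ (G ◁ (a ≫ xW)) ≫ aX.act = _
      rw [lift_whiskerLeft_assoc, Category.id_comp, hg]
    let m₁ : qpt T (a ≫ xW) ⟶ qpt W xW := ⟨a, congrArg ULift.up rfl⟩
    let m₂ : qpt T (p ≫ A₁.φ) ⟶ qpt W xW := ⟨b, congrArg ULift.up hp.symm⟩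
    let h₁ : (qm).obj (qpt T (p ≫ A₁.φ)) ⟶ ξ₀ := trivHom A₁ p ≫ (qm).map m₁
    let h₂ : (qm).obj (qpt T (p ≫ A₁.φ)) ⟶ ξ₀ := (qm).map m₂
    have b₁ : h₁.base = a := by
      show (lift g (𝟙 T) ≫ snd G T) ≫ a = a
      rw [lift_snd, Category.id_comp]
    have b₂ : h₂.base = b := rfl
    obtain ⟨k₁, e₁⟩ := mkArr_comp π h₁ eW hk₀
    obtain ⟨k₂, e₂⟩ := mkArr_comp π h₂ eW hk₀
    have e3 := (val_comp π t h₁ eW hk₀ k₁).trans
      ((val_congr π t (by rw [b₁, b₂, hab]) k₁ k₂).trans (val_comp π t h₂ eW hk₀ k₂).symm)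
    rw [b₁, b₂] at e3
    exact e3
  refine ⟨r, StMod.Mod.RelSect.ext _ _ _ fun A α => ?_⟩
  obtain ⟨k, hk, rfl⟩ := exists_mkArr π A α
  obtain ⟨h₁, h₂, -⟩ := fppf_π A
  haveI := h₁
  haveI : Surjective A.π.left := by assumption
  let m := trivHom A (𝟙 A.P)
  have hm : m.base = A.π := Category.id_comp _
  refine AlgSpLib.appTop_injective_of_flat_surjective A.π.left ?_
  rw [← hm]
  obtain ⟨hk', -⟩ := mkArr_comp π m k hk
  refine (val_comp π (StMod.unitSect π o₀ r) m k hk hk').trans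
    (Eq.trans ?_ (val_comp π t m k hk hk').symm)
  let u : A.P ⟶ W := hW.lift (𝟙 A.P ≫ A.φ) (m.base ≫ k) (by rw [hk', sect_quotMap π f hπ])
  let n : qpt A.P (𝟙 A.P ≫ A.φ) ⟶ qpt W xW := ⟨u, congrArg ULift.up (hW.lift_fst _ _ _)⟩
  have hu : ((qm).map n).base ≫ eW = m.base ≫ k := hW.lift_snd _ _ _
  obtain ⟨hk'', -⟩ := mkArr_comp π ((qm).map n) eW hk₀
  rw [val_congr π (StMod.unitSect π o₀ r) hu.symm hk' hk'', val_congr π t hu.symm hk' hk'',
    ← val_comp π (StMod.unitSect π o₀ r) ((qm).map n) eW hk₀ hk'', ← val_comp π t ((qm).map n) eW hk₀ hk'',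
    unit_val]
  exact congrArg _ hr

end Groth.Agent.ConstQuotTop
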